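import Cfsg.Agent.H490.Lb.BEnum

/-!
# S4879, row `B`, `p = 7`, piece (v) (helper490): the arithmetical statement

`arith` is literally `H141.LB.Arith`.
-/

set_option autoImplicit false

namespace Cfsg.Agent.H490.BA

universe u

/-! ### Sums of three squares -/

theorem sq_mod (z : ℤ) : z * z % 8 = 0 ∨ z * z % 8 = 1 ∨ z * z % 8 = 4 := by
  have h : z % 8 = 0 ∨ z % 8 = 1 ∨ z % 8 = 2 ∨ z % 8 = 3 ∨ z % 8 = 4 ∨ z % 8 = 5 ∨ z % 8 = 6 ∨ z % 8 = 7 := by omega
  rcases h with h | h | h | h | h | h | h | h <;> rw [Int.mul_emod, h] <;> decide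

theorem no7 {I : Type*} (s : Finset I) (hs : s.card ≤ 3) (F : I → ℤ) : ∑ x ∈ s, F x * F x ≠ 7 := by
  classical
  intro h
  have h0 : s.card = 0 ∨ s.card = 1 ∨ s.card = 2 ∨ s.card = 3 := by omega
  rcases h0 with h1 | h1 | h1 | h1
  · rw [Finset.card_eq_zero] at h1
    subst h1
    simp at h
  · obtain ⟨a, rfl⟩ := Finset.card_eq_one.mp h1
    rw [Finset.sum_singleton] at h
    have := sq_mod (F a)
    omega
  · obtain ⟨a, b, hab, rfl⟩ := Finset.card_eq_two.mp h1
    rw [Finset.sum_pair hab] at h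
    have := sq_mod (F a)
    have := sq_mod (F b)
    omega
  · obtain ⟨a, b, c, hab, hac, hbc, rfl⟩ := Finset.card_eq_three.mp h1
    rw [Finset.sum_insert (by simp [hab, hac]), Finset.sum_pair hbc] at h
    have := sq_mod (F a)
    have := sq_mod (F b)
    have := sq_mod (F c)
    omega

/-! ### Dimension -/

/-- Three vectors orthogonal to three nonzero pairwise orthogonal vectors, in dimension at most five. -/
theorem det_zero {U : Type*} [Fintype U] (hU : Fintype.card U ≤ 5) (c r : Fin 3 → U → ℚ) (n : Fin 3 → ℚ)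
    (hn : ∀ t, n t ≠ 0) (hrr : ∀ s t, ∑ x, r s x * r t x = if s = t then n s else 0)
    (hcr : ∀ j t, ∑ x, c j x * r t x = 0) : (Matrix.of fun i j => ∑ x, c i x * c j x).det = 0 := by
  classical
  let L : (Fin 3 ⊕ Fin 3 → ℚ) →ₗ[ℚ] (U → ℚ) :=
    { toFun := fun v x => ∑ j, v (Sum.inl j) * c j x + ∑ t, v (Sum.inr t) * r t x
      map_add' := by
        intro v w
        funext x
        simp only [Pi.add_apply, add_mul, Finset.sum_add_distrib]
        ring
      map_smul' := by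
        intro a v
        funext x
        simp only [Pi.smul_apply, smul_eq_mul, RingHom.id_apply, mul_add, Finset.mul_sum, mul_assoc] }
  have hker : LinearMap.ker L ≠ ⊥ := by
    apply LinearMap.ker_ne_bot_of_finrank_lt
    rw [Module.finrank_fintype_fun_eq_card, Module.finrank_fintype_fun_eq_card]
    simp only [Fintype.card_sum, Fintype.card_fin]
    omega
  obtain ⟨v, hv, hv0⟩ := Submodule.exists_mem_ne_zero_of_ne_bot hker
  have hL : ∀ x, ∑ j, v (Sum.inl j) * c j x + ∑ t, v (Sum.inr t) * r t x = 0 := fun x =>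
    congrFun (LinearMap.mem_ker.mp hv) x
  have h1 : ∀ t, v (Sum.inr t) = 0 := by
    intro t
    have h2 : ∑ x, (∑ j, v (Sum.inl j) * c j x + ∑ s, v (Sum.inr s) * r s x) * r t x = 0 :=
      Finset.sum_eq_zero fun x _ => by rw [hL x, zero_mul]
    have h3 : ∑ x, (∑ j, v (Sum.inl j) * c j x + ∑ s, v (Sum.inr s) * r s x) * r t x =
        ∑ j, v (Sum.inl j) * ∑ x, c j x * r t x + ∑ s, v (Sum.inr s) * ∑ x, r s x * r t x := by
      simp only [add_mul, Finset.sum_mul, Finset.sum_add_distrib, Finset.mul_sum]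
      congr 1
      · rw [Finset.sum_comm]
        exact Finset.sum_congr rfl fun j _ => Finset.sum_congr rfl fun x _ => by ring
      · rw [Finset.sum_comm]
        exact Finset.sum_congr rfl fun j _ => Finset.sum_congr rfl fun x _ => by ring
    rw [h3] at h2
    simp only [hcr, mul_zero, Finset.sum_const_zero, zero_add, hrr, mul_ite] at h2
    rw [Finset.sum_ite_eq' Finset.univ t] at h2
    simp only [Finset.mem_univ, if_true] at h2
    rcases mul_eq_zero.mp h2 with h | h
    · exact h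
    · exact absurd h (hn t)
  have hw : (fun j => v (Sum.inl j)) ≠ 0 := by
    intro h
    apply hv0
    funext i
    rcases i with j | t
    · exact congrFun h j
    · exact h1 t
  refine Matrix.exists_mulVec_eq_zero_iff.mp ⟨fun j => v (Sum.inl j), hw, ?_⟩
  funext i
  have h4 : ∀ x, ∑ j, v (Sum.inl j) * c j x = 0 := by
    intro x
    have := hL x
    simpa only [h1, zero_mul, Finset.sum_const_zero, add_zero] using this
  calc ((Matrix.of fun i j => ∑ x, c i x * c j x).mulVec fun j => v (Sum.inl j)) i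
      = ∑ j, (∑ x, c i x * c j x) * v (Sum.inl j) := rfl
    _ = ∑ x, c i x * ∑ j, v (Sum.inl j) * c j x := by
        simp only [Finset.sum_mul, Finset.mul_sum]
        rw [Finset.sum_comm]
        exact Finset.sum_congr rfl fun x _ => Finset.sum_congr rfl fun j _ => by ring
    _ = 0 := Finset.sum_eq_zero fun x _ => by rw [h4, mul_zero]

/-- The same with integral vectors and relations: `W` is singular. -/
theorem det_W {I : Type*} (U : Finset I) (hU : U.card ≤ 5) (c r : Fin 3 → I → ℤ) (n : Fin 3 → ℤ)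
    (T G : Fin 3 → Fin 3 → ℤ) (hn : ∀ t, n t ≠ 0)
    (hrr : ∀ s t, ∑ x ∈ U, r s x * r t x = if s = t then n s else 0)
    (hcr : ∀ j t, ∑ x ∈ U, c j x * r t x = -T t j) (hG : ∀ i j, ∑ x ∈ U, c i x * c j x = G i j) :
    (Matrix.of fun i j => n 0 * n 1 * n 2 * G i j - n 1 * n 2 * (T 0 i * T 0 j) - n 0 * n 2 * (T 1 i * T 1 j) -
      n 0 * n 1 * (T 2 i * T 2 j)).det = 0 := by
  classical
  set N : ℤ := n 0 * n 1 * n 2 with hN
  set m : Fin 3 → ℤ := ![n 1 * n 2, n 0 * n 2, n 0 * n 1] with hm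
  have hmn : ∀ t, m t * n t = N := by
    intro t
    fin_cases t
    · show n 1 * n 2 * n 0 = N
      rw [hN]; ring
    · show n 0 * n 2 * n 1 = N
      rw [hN]; ring
    · show n 0 * n 1 * n 2 = N
      rw [hN]
  have hN0 : N ≠ 0 := by
    rw [hN]
    exact mul_ne_zero (mul_ne_zero (hn 0) (hn 1)) (hn 2)
  -- the projected columns
  let d : Fin 3 → I → ℤ := fun j x => N * c j x + ∑ t, m t * T t j * r t x
  have hdr : ∀ j t, ∑ x ∈ U, d j x * r t x = 0 := by
    intro j t
    have e1 : ∑ x ∈ U, d j x * r t x = N * ∑ x ∈ U, c j x * r t x + ∑ s, m s * T s j * ∑ x ∈ U, r s x * r t x := by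
      simp only [d, add_mul, Finset.sum_add_distrib, Finset.mul_sum, Finset.sum_mul]
      congr 1
      · exact Finset.sum_congr rfl fun x _ => by ring
      · rw [Finset.sum_comm]
        exact Finset.sum_congr rfl fun s _ => Finset.sum_congr rfl fun x _ => by ring
    rw [e1, hcr]
    simp only [hrr, mul_ite, mul_zero]
    rw [Finset.sum_ite_eq' Finset.univ t]
    simp only [Finset.mem_univ, if_true]
    have := hmn t
    calc N * -T t j + m t * T t j * n t = T t j * (m t * n t - N) := by ring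
      _ = 0 := by rw [this, sub_self, mul_zero]
  have hdc : ∀ i j, ∑ x ∈ U, d i x * d j x = N * (N * G i j - ∑ t, m t * (T t i * T t j)) := by
    intro i j
    have e1 : ∑ x ∈ U, d i x * d j x = N * ∑ x ∈ U, d i x * c j x + ∑ t, m t * T t j * ∑ x ∈ U, d i x * r t x := by
      have : ∀ x, d i x * d j x = N * (d i x * c j x) + ∑ t, m t * T t j * (d i x * r t x) := by
        intro x
        show d i x * (N * c j x + ∑ t, m t * T t j * r t x) = _
        rw [mul_add, Finset.mul_sum]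
        congr 1
        · ring
        · exact Finset.sum_congr rfl fun t _ => by ring
      simp only [this, Finset.sum_add_distrib, Finset.mul_sum]
      congr 1
      rw [Finset.sum_comm]
    rw [e1]
    simp only [hdr, mul_zero, Finset.sum_const_zero, add_zero]
    congr 1
    have e2 : ∑ x ∈ U, d i x * c j x = N * ∑ x ∈ U, c i x * c j x + ∑ t, m t * T t i * ∑ x ∈ U, c j x * r t x := by
      have : ∀ x, d i x * c j x = N * (c i x * c j x) + ∑ t, m t * T t i * (c j x * r t x) := by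
        intro x
        show (N * c i x + ∑ t, m t * T t i * r t x) * c j x = _
        rw [add_mul, Finset.sum_mul]
        congr 1
        · ring
        · exact Finset.sum_congr rfl fun t _ => by ring
      simp only [this, Finset.sum_add_distrib, Finset.mul_sum]
      congr 1
      rw [Finset.sum_comm]
    rw [e2, hG, sub_eq_add_neg, ← Finset.sum_neg_distrib]
    congr 1
    refine Finset.sum_congr rfl fun t _ => ?_
    rw [hcr]
    ring
  -- the determinant of the projected columns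
  have key := det_zero (U := U) (by rw [Fintype.card_coe]; exact hU) (fun j x => (d j x : ℚ)) (fun t x => (r t x : ℚ))
    (fun t => (n t : ℚ)) (fun t => by exact_mod_cast hn t)
    (fun s t => by
      have := hrr s t
      rw [← Finset.sum_coe_sort U (fun x => r s x * r t x)] at this
      have h2 : ((∑ x : U, r s x * r t x : ℤ) : ℚ) = ((if s = t then n s else 0 : ℤ) : ℚ) := by rw [this]
      push_cast at h2
      exact h2)
    (fun j t => by
      have := hdr j t
      rw [← Finset.sum_coe_sort U (fun x => d j x * r t x)] at this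
      have h2 : ((∑ x : U, d j x * r t x : ℤ) : ℚ) = ((0 : ℤ) : ℚ) := by rw [this]
      push_cast at h2
      exact h2)
  have key2 : (Matrix.of fun i j => ∑ x ∈ U, d i x * d j x).det = (0 : ℤ) := by
    have e1 : ((Matrix.of fun i j => ∑ x ∈ U, d i x * d j x : Matrix (Fin 3) (Fin 3) ℤ).map (Int.castRingHom ℚ)) =
        Matrix.of fun i j => ∑ x : U, ((d i x : ℤ) : ℚ) * ((d j x : ℤ) : ℚ) := by
      ext i j
      simp only [Matrix.map_apply, Matrix.of_apply, eq_intCast]
      rw [← Finset.sum_coe_sort U (fun x => d i x * d j x)]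
      push_cast
      rfl
    have e2 := (Int.castRingHom ℚ).map_det (Matrix.of fun i j => ∑ x ∈ U, d i x * d j x : Matrix (Fin 3) (Fin 3) ℤ)
    rw [RingHom.mapMatrix_apply, e1, key, eq_intCast] at e2
    exact_mod_cast e2
  have e3 : (Matrix.of fun i j => ∑ x ∈ U, d i x * d j x : Matrix (Fin 3) (Fin 3) ℤ) =
      N • (Matrix.of fun i j => N * G i j - ∑ t, m t * (T t i * T t j)) := by
    ext i j
    simp only [Matrix.of_apply, Matrix.smul_apply, smul_eq_mul]
    exact hdc i j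
  rw [e3, Matrix.det_smul] at key2
  have key3 : (Matrix.of fun i j => N * G i j - ∑ t, m t * (T t i * T t j) : Matrix (Fin 3) (Fin 3) ℤ).det = 0 := by
    rcases mul_eq_zero.mp key2 with h | h
    · exact absurd h (pow_ne_zero _ hN0)
    · exact h
  rw [← key3]
  congr 1
  ext i j
  simp only [Matrix.of_apply, Fin.sum_univ_three]
  show _ = N * G i j - (n 1 * n 2 * (T 0 i * T 0 j) + n 0 * n 2 * (T 1 i * T 1 j) + n 0 * n 1 * (T 2 i * T 2 j))
  ring

/-! ### Small tools -/

theorem icc4 {a : ℤ} (h : a * a ≤ 21) : a ∈ Finset.Icc (-4 : ℤ) 4 := by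
  rw [Finset.mem_Icc]
  constructor <;> nlinarith

theorem quad_sum {I : Type*} (s : Finset I) (q : I → Fin 3 → ℤ) (u v w : ℤ) :
    ∑ x ∈ s, (u * q x 0 + v * q x 1 + w * q x 2) * (u * q x 0 + v * q x 1 + w * q x 2) =
      u * u * ∑ x ∈ s, q x 0 * q x 0 + v * v * ∑ x ∈ s, q x 1 * q x 1 + w * w * ∑ x ∈ s, q x 2 * q x 2 +
        2 * u * v * ∑ x ∈ s, q x 0 * q x 1 + 2 * u * w * ∑ x ∈ s, q x 0 * q x 2 +
        2 * v * w * ∑ x ∈ s, q x 1 * q x 2 := by
  simp only [Finset.mul_sum, ← Finset.sum_add_distrib]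
  exact Finset.sum_congr rfl fun x _ => by ring

theorem ball {I : Type*} [Fintype I] (q : I → Fin 3 → ℤ)
    (hG : ∀ i j, ∑ x, q x i * q x j = 7 * ((if i = j then 1 else 0) + 2)) (x : I) :
    7 * (q x 0 * q x 0 + q x 1 * q x 1 + q x 2 * q x 2) -
      2 * ((q x 0 + q x 1 + q x 2) * (q x 0 + q x 1 + q x 2)) ≤ 49 := by
  set A := q x 0 with hA
  set B := q x 1 with hB
  set C := q x 2 with hC
  have G00 : ∑ x, q x 0 * q x 0 = 21 := by rw [hG]; decide
  have G11 : ∑ x, q x 1 * q x 1 = 21 := by rw [hG]; decide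
  have G22 : ∑ x, q x 2 * q x 2 = 21 := by rw [hG]; decide
  have G01 : ∑ x, q x 0 * q x 1 = 14 := by rw [hG]; decide
  have G02 : ∑ x, q x 0 * q x 2 = 14 := by rw [hG]; decide
  have G12 : ∑ x, q x 1 * q x 2 = 14 := by rw [hG]; decide
  have h1 := quad_sum Finset.univ q (7 * A - 2 * (A + B + C)) (7 * B - 2 * (A + B + C)) (7 * C - 2 * (A + B + C))
  rw [G00, G11, G22, G01, G02, G12] at h1
  have h2 := Finset.single_le_sum (s := Finset.univ)
    (f := fun y => ((7 * A - 2 * (A + B + C)) * q y 0 + (7 * B - 2 * (A + B + C)) * q y 1 +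
      (7 * C - 2 * (A + B + C)) * q y 2) * ((7 * A - 2 * (A + B + C)) * q y 0 +
      (7 * B - 2 * (A + B + C)) * q y 1 + (7 * C - 2 * (A + B + C)) * q y 2))
    (fun y _ => mul_self_nonneg _) (Finset.mem_univ x)
  rw [h1] at h2
  simp only [← hA, ← hB, ← hC] at h2
  set N := 7 * (A * A + B * B + C * C) - 2 * ((A + B + C) * (A + B + C)) with hN
  have h3 : (7 * A - 2 * (A + B + C)) * A + (7 * B - 2 * (A + B + C)) * B + (7 * C - 2 * (A + B + C)) * C = N := by
    rw [hN]; ring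
  rw [h3] at h2
  have h4 : N * N ≤ 49 * N := by
    refine h2.trans (le_of_eq ?_)
    rw [hN]; ring
  by_contra h5
  nlinarith

theorem unique_of_sum {I : Type*} (U : Finset I) (F : I → ℤ) (hF : ∀ x, F x = 0 ∨ F x = 1 ∨ F x = -1)
    (h : ∑ x ∈ U, F x * F x = 1) : ∃ u ∈ U, (F u = 1 ∨ F u = -1) ∧ ∀ x ∈ U, x ≠ u → F x = 0 := by
  classical
  have h1 : ∃ u ∈ U, F u ≠ 0 := by
    by_contra hc
    push Not at hc
    rw [Finset.sum_eq_zero fun x hx => by rw [hc x hx, mul_zero]] at h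
    exact zero_ne_one h
  obtain ⟨u, hu, hu0⟩ := h1
  have hu1 : F u = 1 ∨ F u = -1 := by
    rcases hF u with h2 | h2
    · exact absurd h2 hu0
    · exact h2
  refine ⟨u, hu, hu1, ?_⟩
  have h2 := Finset.add_sum_erase U (fun x => F x * F x) hu
  have h3 : F u * F u = 1 := by rcases hu1 with h | h <;> rw [h] <;> norm_num
  simp only [h3] at h2
  have h4 : ∑ x ∈ U.erase u, F x * F x = 0 := by linarith
  rw [Finset.sum_eq_zero_iff_of_nonneg (fun x _ => mul_self_nonneg _)] at h4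
  intro x hx hxu
  exact mul_self_eq_zero.mp (h4 x (Finset.mem_erase.mpr ⟨hxu, hx⟩))

theorem det_sym (s : Sym) (q₂ q₃ : V) (n₀ n₁ n₂ : ℤ) (G T : Fin 3 → Fin 3 → ℤ) (g00 : G 0 0 = s.a) (g11 : G 1 1 = s.b)
    (g22 : G 2 2 = s.c) (g01 : G 0 1 = s.d) (g10 : G 1 0 = s.d) (g02 : G 0 2 = s.e) (g20 : G 2 0 = s.e)
    (g12 : G 1 2 = s.f) (g21 : G 2 1 = s.f) (t00 : T 0 0 = 1) (t01 : T 0 1 = 0) (t02 : T 0 2 = 0)
    (t10 : T 1 0 = q₂.1) (t11 : T 1 1 = q₂.2.1) (t12 : T 1 2 = q₂.2.2)
    (t20 : T 2 0 = q₃.1) (t21 : T 2 1 = q₃.2.1) (t22 : T 2 2 = q₃.2.2) :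
    (Matrix.of fun i j => n₀ * n₁ * n₂ * G i j - n₁ * n₂ * (T 0 i * T 0 j) - n₀ * n₂ * (T 1 i * T 1 j) -
      n₀ * n₁ * (T 2 i * T 2 j)).det = (W s q₂ q₃ n₀ n₁ n₂).det := by
  rw [Matrix.det_fin_three]
  simp only [Matrix.of_apply, g00, g11, g22, g01, g10, g02, g20, g12, g21, t00, t01, t02, t10, t11, t12, t20, t21, t22,
    Sym.det, W]
  ring

/-- **S4879, row `B`, `p = 7`, piece (v): the arithmetical statement** (`H141.LB.Arith`). -/
theorem arith {I : Type u} [Fintype I] (q : I → Fin 3 → ℤ)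
    (hG : ∀ i j, ∑ x, q x i * q x j = 7 * ((if i = j then 1 else 0) + 2))
    {x1 x2 x3 x4 : I} (n12 : x1 ≠ x2) (n13 : x1 ≠ x3) (n14 : x1 ≠ x4) (n23 : x2 ≠ x3) (n24 : x2 ≠ x4) (n34 : x3 ≠ x4)
    (hq1 : q x1 = ![1, 0, 0]) (a b : ℤ) (ha : a % 7 = 1) (hb : b % 7 = 1)
    (h2 : (q x2 0 + a * q x2 1 + b * q x2 2) % 49 = 19)
    (h3 : (q x3 0 + a * q x3 1 + b * q x3 2) % 49 = 45) (h4 : (q x4 0 + a * q x4 1 + b * q x4 2) % 49 = 16)
    (r : Fin 3 → I → ℤ) (hr : ∀ t x, r t x = 0 ∨ r t x = 1 ∨ r t x = -1)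
    (hd : ∀ s t x, s ≠ t → r s x = 0 ∨ r t x = 0) (rx1 : ∀ t, r t x1 = (![1, 0, 0] : Fin 3 → ℤ) t)
    (rx2 : ∀ t, r t x2 = (![0, 1, 0] : Fin 3 → ℤ) t) (rx3 : ∀ t, r t x3 = (![0, 0, 1] : Fin 3 → ℤ) t)
    (rx4 : ∀ t, r t x4 = 0) (hrel : ∀ t j, ∑ x, r t x * q x j = 0) : 10 ≤ Fintype.card I := by
  classical
  by_contra hcard
  set U : Finset I := (((Finset.univ.erase x1).erase x2).erase x3).erase x4 with hU
  have m1 : x1 ∈ (Finset.univ : Finset I) := Finset.mem_univ _
  have m2 : x2 ∈ (Finset.univ : Finset I).erase x1 := Finset.mem_erase.mpr ⟨n12.symm, Finset.mem_univ _⟩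
  have m3 : x3 ∈ ((Finset.univ : Finset I).erase x1).erase x2 :=
    Finset.mem_erase.mpr ⟨n23.symm, Finset.mem_erase.mpr ⟨n13.symm, Finset.mem_univ _⟩⟩
  have m4 : x4 ∈ (((Finset.univ : Finset I).erase x1).erase x2).erase x3 :=
    Finset.mem_erase.mpr ⟨n34.symm, Finset.mem_erase.mpr ⟨n24.symm,
      Finset.mem_erase.mpr ⟨n14.symm, Finset.mem_univ _⟩⟩⟩
  have hsum : ∀ F : I → ℤ, ∑ x ∈ U, F x = ∑ x, F x - F x1 - F x2 - F x3 - F x4 := by
    intro F
    have e1 := Finset.add_sum_erase _ F m1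
    have e2 := Finset.add_sum_erase _ F m2
    have e3 := Finset.add_sum_erase _ F m3
    have e4 := Finset.add_sum_erase _ F m4
    rw [hU]
    linarith
  have hUcard : U.card ≤ 5 := by
    have e1 := Finset.card_erase_of_mem m1
    have e2 := Finset.card_erase_of_mem m2
    have e3 := Finset.card_erase_of_mem m3
    have e4 := Finset.card_erase_of_mem m4
    rw [Finset.card_univ] at e1
    rw [hU]
    omega
  have q10 : q x1 0 = 1 := by rw [hq1]; rfl
  have q11 : q x1 1 = 0 := by rw [hq1]; rfl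
  have q12 : q x1 2 = 0 := by rw [hq1]; rfl
  have G00 : ∑ x, q x 0 * q x 0 = 21 := by rw [hG]; decide
  have G11 : ∑ x, q x 1 * q x 1 = 21 := by rw [hG]; decide
  have G22 : ∑ x, q x 2 * q x 2 = 21 := by rw [hG]; decide
  have G01 : ∑ x, q x 0 * q x 1 = 14 := by rw [hG]; decide
  have G02 : ∑ x, q x 0 * q x 2 = 14 := by rw [hG]; decide
  have G12 : ∑ x, q x 1 * q x 2 = 14 := by rw [hG]; decide
  -- the rows are in the list
  have hmem : ∀ x, (q x 0, q x 1, q x 2) ∈ vs := by
    intro x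
    have hb := ball q hG x
    have e0 : q x 0 * q x 0 ≤ 21 := by
      rw [← G00]
      exact Finset.single_le_sum (f := fun x => q x 0 * q x 0) (fun y _ => mul_self_nonneg _) (Finset.mem_univ x)
    have e1 : q x 1 * q x 1 ≤ 21 := by
      rw [← G11]
      exact Finset.single_le_sum (f := fun x => q x 1 * q x 1) (fun y _ => mul_self_nonneg _) (Finset.mem_univ x)
    have e2 : q x 2 * q x 2 ≤ 21 := by
      rw [← G22]
      exact Finset.single_le_sum (f := fun x => q x 2 * q x 2) (fun y _ => mul_self_nonneg _) (Finset.mem_univ x)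
    exact mem_vs _ (icc4 e0) _ (icc4 e1) _ (icc4 e2) hb
  set Q2 : V := (q x2 0, q x2 1, q x2 2) with hQ2
  set Q3 : V := (q x3 0, q x3 1, q x3 2) with hQ3
  set Q4 : V := (q x4 0, q x4 1, q x4 2) with hQ4
  -- the residues
  have hres : ∀ c : ℤ, c % 7 = 1 → c % 49 ∈ res := by
    intro c hc
    refine mem_res _ (Finset.mem_Icc.mpr ⟨Int.emod_nonneg _ (by norm_num), ?_⟩) ?_
    · have := Int.emod_lt_of_pos c (show (0 : ℤ) < 49 by norm_num)
      omega
    · rw [Int.emod_emod_of_dvd c (by norm_num : (7 : ℤ) ∣ 49)]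
      exact hc
  have hval : ∀ x, val (a % 49) (b % 49) (q x 0, q x 1, q x 2) = (q x 0 + a * q x 1 + b * q x 2) % 49 := by
    intro x
    exact ((Int.ModEq.refl (q x 0)).add ((Int.mod_modEq a 49).mul_right (q x 1))).add
      ((Int.mod_modEq b 49).mul_right (q x 2))
  -- the lengths
  set n : Fin 3 → ℤ := fun t => ∑ x ∈ U, r t x * r t x with hn
  set T : Fin 3 → Fin 3 → ℤ := ![q x1, q x2, q x3] with hT
  have hcr : ∀ j t, ∑ x ∈ U, q x j * r t x = -T t j := by
    intro j t
    rw [hsum, rx4 t]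
    have e1 : ∑ x, q x j * r t x = 0 := by
      rw [← hrel t j]
      exact Finset.sum_congr rfl fun x _ => mul_comm _ _
    rw [e1, rx1 t, rx2 t, rx3 t]
    fin_cases t
    · show (0 : ℤ) - q x1 j * 1 - q x2 j * 0 - q x3 j * 0 - q x4 j * 0 = -q x1 j
      ring
    · show (0 : ℤ) - q x1 j * 0 - q x2 j * 1 - q x3 j * 0 - q x4 j * 0 = -q x2 j
      ring
    · show (0 : ℤ) - q x1 j * 0 - q x2 j * 0 - q x3 j * 1 - q x4 j * 0 = -q x3 j
      ring
  have hT0 : ∀ t, ∃ j, T t j ≠ 0 := by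
    intro t
    by_contra hc
    push Not at hc
    fin_cases t
    · have := hc 0
      change q x1 0 = 0 at this
      rw [q10] at this
      exact one_ne_zero this
    · have e0 : q x2 0 = 0 := hc 0
      have e1 : q x2 1 = 0 := hc 1
      have e2 : q x2 2 = 0 := hc 2
      rw [e0, e1, e2] at h2
      simp at h2
    · have e0 : q x3 0 = 0 := hc 0
      have e1 : q x3 1 = 0 := hc 1
      have e2 : q x3 2 = 0 := hc 2
      rw [e0, e1, e2] at h3
      simp at h3
  have hn1 : ∀ t, 1 ≤ n t := by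
    intro t
    have e0 : 0 ≤ n t := Finset.sum_nonneg fun x _ => mul_self_nonneg _
    by_contra hc
    have e1 : n t = 0 := by omega
    rw [hn] at e1
    simp only at e1
    rw [Finset.sum_eq_zero_iff_of_nonneg (fun x _ => mul_self_nonneg _)] at e1
    obtain ⟨j, hj⟩ := hT0 t
    apply hj
    have e2 := hcr j t
    rw [Finset.sum_eq_zero fun x hx => by rw [mul_self_eq_zero.mp (e1 x hx), mul_zero]] at e2
    linarith
  have hn5 : n 0 + n 1 + n 2 ≤ 5 := by
    have e1 : n 0 + n 1 + n 2 = ∑ x ∈ U, (r 0 x * r 0 x + r 1 x * r 1 x + r 2 x * r 2 x) := by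
      simp only [hn, Finset.sum_add_distrib]
    have e2 : ∑ x ∈ U, (r 0 x * r 0 x + r 1 x * r 1 x + r 2 x * r 2 x) ≤ ∑ x ∈ U, (1 : ℤ) := by
      refine Finset.sum_le_sum fun x _ => ?_
      have d01 := hd 0 1 x (by decide)
      have d02 := hd 0 2 x (by decide)
      have d12 := hd 1 2 x (by decide)
      rcases hr 0 x with e | e | e <;> rcases hr 1 x with e' | e' | e' <;> rcases hr 2 x with e'' | e'' | e'' <;>
        rw [e, e'] at d01 <;> rw [e, e''] at d02 <;> rw [e', e''] at d12 <;> rw [e, e', e''] <;> omega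
    rw [Finset.sum_const, nsmul_eq_mul, mul_one] at e2
    rw [e1]
    refine e2.trans ?_
    exact_mod_cast hUcard
  have hnmem : (n 0, n 1, n 2) ∈ ns := by
    have := hn1 0
    have := hn1 1
    have := hn1 2
    exact mem_ns _ (Finset.mem_Icc.mpr ⟨hn1 0, by omega⟩) _ (Finset.mem_Icc.mpr ⟨hn1 1, by omega⟩) _
      (Finset.mem_Icc.mpr ⟨hn1 2, by omega⟩) hn5
  -- the Gram matrix
  have g00 : ∑ x ∈ U, q x 0 * q x 0 = (R Q2 Q3 Q4).a := by
    rw [hsum, G00, q10]; simp only [R, hQ2, hQ3, hQ4]; ring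
  have g11 : ∑ x ∈ U, q x 1 * q x 1 = (R Q2 Q3 Q4).b := by
    rw [hsum, G11, q11]; simp only [R, hQ2, hQ3, hQ4]; ring
  have g22 : ∑ x ∈ U, q x 2 * q x 2 = (R Q2 Q3 Q4).c := by
    rw [hsum, G22, q12]; simp only [R, hQ2, hQ3, hQ4]; ring
  have g01 : ∑ x ∈ U, q x 0 * q x 1 = (R Q2 Q3 Q4).d := by
    rw [hsum, G01, q10, q11]; simp only [R, hQ2, hQ3, hQ4]; ring
  have g02 : ∑ x ∈ U, q x 0 * q x 2 = (R Q2 Q3 Q4).e := by
    rw [hsum, G02, q10, q12]; simp only [R, hQ2, hQ3, hQ4]; ring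
  have g12 : ∑ x ∈ U, q x 1 * q x 2 = (R Q2 Q3 Q4).f := by
    rw [hsum, G12, q11, q12]; simp only [R, hQ2, hQ3, hQ4]; ring
  have comm : ∀ i j, ∑ x ∈ U, q x i * q x j = ∑ x ∈ U, q x j * q x i := fun i j =>
    Finset.sum_congr rfl fun x _ => mul_comm _ _
  have CS : ∀ i j, (∑ x ∈ U, q x i * q x j) * (∑ x ∈ U, q x i * q x j) ≤
      (∑ x ∈ U, q x i * q x i) * ∑ x ∈ U, q x j * q x j := by
    intro i j
    have := Finset.sum_mul_sq_le_sq_mul_sq U (fun x => q x i) (fun x => q x j)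
    simpa only [sq] using this
  have hmin : (R Q2 Q3 Q4).minors = true := by
    have p0 : 0 ≤ ∑ x ∈ U, q x 0 * q x 0 := Finset.sum_nonneg fun x _ => mul_self_nonneg _
    have p1 : 0 ≤ ∑ x ∈ U, q x 1 * q x 1 := Finset.sum_nonneg fun x _ => mul_self_nonneg _
    have p2 : 0 ≤ ∑ x ∈ U, q x 2 * q x 2 := Finset.sum_nonneg fun x _ => mul_self_nonneg _
    have c01 := CS 0 1
    have c02 := CS 0 2
    have c12 := CS 1 2
    rw [g00] at p0
    rw [g11] at p1
    rw [g22] at p2
    rw [g01, g00, g11] at c01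
    rw [g02, g00, g22] at c02
    rw [g12, g11, g22] at c12
    simp only [Sym.minors, Bool.and_eq_true, decide_eq_true_eq]
    exact ⟨⟨⟨⟨⟨p0, p1⟩, p2⟩, c01⟩, c02⟩, c12⟩
  have hdet : (W (R Q2 Q3 Q4) Q2 Q3 (n 0) (n 1) (n 2)).det = 0 := by
    have e1 := det_W U hUcard (fun j x => q x j) r n T (fun i j => ∑ x ∈ U, q x i * q x j)
      (fun t => by have := hn1 t; omega)
      (fun s t => by
        split_ifs with h
        · rw [h]
        · exact Finset.sum_eq_zero fun x _ => by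
            rcases hd s t x h with e | e
            · rw [e, zero_mul]
            · rw [e, mul_zero])
      hcr (fun i j => rfl)
    rw [← e1]
    symm
    exact det_sym (R Q2 Q3 Q4) Q2 Q3 (n 0) (n 1) (n 2) (fun i j => ∑ x ∈ U, q x i * q x j) T g00 g11 g22 g01
      (by rw [comm]; exact g01) g02 (by rw [comm]; exact g02) g12 (by rw [comm]; exact g12) q10 q11 q12 rfl rfl rfl
      rfl rfl rfl
  obtain ⟨k0, k2, ka, kq⟩ := enum (hres a ha) (hres b hb) (hmem x2) (hmem x3) (hmem x4) ((hval x2).trans h2)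
    ((hval x3).trans h3) ((hval x4).trans h4) hmin hnmem hdet
  -- the exceptional case
  obtain ⟨u, hu, hu1, hu2⟩ := unique_of_sum U (r 0) (hr 0) k0
  obtain ⟨w, hw, hw1, hw2⟩ := unique_of_sum U (r 2) (hr 2) k2
  have huw : w ≠ u := by
    rintro rfl
    rcases hd 0 2 w (by decide) with e | e
    · rw [e] at hu1; omega
    · rw [e] at hw1; omega
  have eu : q u 0 * q u 0 = 1 := by
    have e1 := hcr 0 0
    rw [Finset.sum_eq_single_of_mem u hu (fun x hx hxu => by rw [hu2 x hx hxu, mul_zero])] at e1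
    change q u 0 * r 0 u = -q x1 0 at e1
    rw [q10] at e1
    rcases hu1 with e | e
    · rw [e, mul_one] at e1; rw [e1]; norm_num
    · rw [e] at e1
      have : q u 0 = 1 := by linarith
      rw [this]; norm_num
  have ew : q w 0 * q w 0 = 1 := by
    have e1 := hcr 0 2
    rw [Finset.sum_eq_single_of_mem w hw (fun x hx hxw => by rw [hw2 x hx hxw, mul_zero])] at e1
    change q w 0 * r 2 w = -q x3 0 at e1
    have e2 : q x3 0 * q x3 0 = 1 := kq
    rcases hw1 with e | e
    · rw [e, mul_one] at e1; rw [e1, neg_mul_neg]; exact e2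
    · rw [e] at e1
      have : q w 0 = q x3 0 := by linarith
      rw [this]; exact e2
  have f1 := Finset.add_sum_erase U (fun x => q x 0 * q x 0) hu
  have hw' : w ∈ U.erase u := Finset.mem_erase.mpr ⟨huw, hw⟩
  have f2 := Finset.add_sum_erase (U.erase u) (fun x => q x 0 * q x 0) hw'
  have c1 := Finset.card_erase_of_mem hu
  have c2 := Finset.card_erase_of_mem hw'
  refine no7 ((U.erase u).erase w) (by omega) (fun x => q x 0) ?_
  have ka' : ∑ x ∈ U, q x 0 * q x 0 = 9 := g00.trans ka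
  linarith

end Cfsg.Agent.H490.BA
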