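import Mathlib

/-!
# S4879, row `B`, `p = 7` (helper490): the enumeration for the arithmetical statement (v)

`a`, `b` : the unknown signed degrees modulo `49`; `q₂, q₃, q₄` : the rows of `96255`, `9550635`, `4275362520`;
`R` : the Gram matrix of the columns on the unknown part; `W` : the Gram matrix (times `n₀ n₁ n₂`) of the columns,
projected on the complement of the three relations.
-/

set_option autoImplicit false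
set_option maxRecDepth 100000

namespace Cfsg.Agent.H490.BA

/-- a row -/
abbrev V := ℤ × ℤ × ℤ

set_option maxHeartbeats 4000000 in
/-- the integral vectors with `7 |q|² - 2 (∑ q)² ≤ 49` and entries at most `4` -/
def vs : List V :=
  [(-4, -4, -4), (-4, -4, -3), (-4, -3, -4), (-4, -3, -3), (-4, -3, -2), (-4, -2, -3), (-4, -2, -2),
   (-4, -2, -1), (-4, -1, -2), (-3, -4, -4), (-3, -4, -3), (-3, -4, -2), (-3, -3, -4), (-3, -3, -3),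
   (-3, -3, -2), (-3, -3, -1), (-3, -2, -4), (-3, -2, -3), (-3, -2, -2), (-3, -2, -1), (-3, -2, 0),
   (-3, -1, -3), (-3, -1, -2), (-3, -1, -1), (-3, -1, 0), (-3, 0, -2), (-3, 0, -1), (-3, 0, 0), (-2, -4, -3),
   (-2, -4, -2), (-2, -4, -1), (-2, -3, -4), (-2, -3, -3), (-2, -3, -2), (-2, -3, -1), (-2, -3, 0),
   (-2, -2, -4), (-2, -2, -3), (-2, -2, -2), (-2, -2, -1), (-2, -2, 0), (-2, -2, 1), (-2, -1, -4),
   (-2, -1, -3), (-2, -1, -2), (-2, -1, -1), (-2, -1, 0), (-2, -1, 1), (-2, 0, -3), (-2, 0, -2), (-2, 0, -1),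
   (-2, 0, 0), (-2, 0, 1), (-2, 1, -2), (-2, 1, -1), (-2, 1, 0), (-2, 1, 1), (-1, -4, -2), (-1, -3, -3),
   (-1, -3, -2), (-1, -3, -1), (-1, -3, 0), (-1, -2, -4), (-1, -2, -3), (-1, -2, -2), (-1, -2, -1),
   (-1, -2, 0), (-1, -2, 1), (-1, -1, -3), (-1, -1, -2), (-1, -1, -1), (-1, -1, 0), (-1, -1, 1), (-1, -1, 2),
   (-1, 0, -3), (-1, 0, -2), (-1, 0, -1), (-1, 0, 0), (-1, 0, 1), (-1, 0, 2), (-1, 1, -2), (-1, 1, -1),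
   (-1, 1, 0), (-1, 1, 1), (-1, 1, 2), (-1, 2, -1), (-1, 2, 0), (-1, 2, 1), (-1, 2, 2), (0, -3, -2),
   (0, -3, -1), (0, -3, 0), (0, -2, -3), (0, -2, -2), (0, -2, -1), (0, -2, 0), (0, -2, 1), (0, -1, -3),
   (0, -1, -2), (0, -1, -1), (0, -1, 0), (0, -1, 1), (0, -1, 2), (0, 0, -3), (0, 0, -2), (0, 0, -1),
   (0, 0, 0), (0, 0, 1), (0, 0, 2), (0, 0, 3), (0, 1, -2), (0, 1, -1), (0, 1, 0), (0, 1, 1), (0, 1, 2),
   (0, 1, 3), (0, 2, -1), (0, 2, 0), (0, 2, 1), (0, 2, 2), (0, 2, 3), (0, 3, 0), (0, 3, 1), (0, 3, 2),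
   (1, -2, -2), (1, -2, -1), (1, -2, 0), (1, -2, 1), (1, -1, -2), (1, -1, -1), (1, -1, 0), (1, -1, 1),
   (1, -1, 2), (1, 0, -2), (1, 0, -1), (1, 0, 0), (1, 0, 1), (1, 0, 2), (1, 0, 3), (1, 1, -2), (1, 1, -1),
   (1, 1, 0), (1, 1, 1), (1, 1, 2), (1, 1, 3), (1, 2, -1), (1, 2, 0), (1, 2, 1), (1, 2, 2), (1, 2, 3),
   (1, 2, 4), (1, 3, 0), (1, 3, 1), (1, 3, 2), (1, 3, 3), (1, 4, 2), (2, -1, -1), (2, -1, 0), (2, -1, 1),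
   (2, -1, 2), (2, 0, -1), (2, 0, 0), (2, 0, 1), (2, 0, 2), (2, 0, 3), (2, 1, -1), (2, 1, 0), (2, 1, 1),
   (2, 1, 2), (2, 1, 3), (2, 1, 4), (2, 2, -1), (2, 2, 0), (2, 2, 1), (2, 2, 2), (2, 2, 3), (2, 2, 4),
   (2, 3, 0), (2, 3, 1), (2, 3, 2), (2, 3, 3), (2, 3, 4), (2, 4, 1), (2, 4, 2), (2, 4, 3), (3, 0, 0),
   (3, 0, 1), (3, 0, 2), (3, 1, 0), (3, 1, 1), (3, 1, 2), (3, 1, 3), (3, 2, 0), (3, 2, 1), (3, 2, 2),
   (3, 2, 3), (3, 2, 4), (3, 3, 1), (3, 3, 2), (3, 3, 3), (3, 3, 4), (3, 4, 2), (3, 4, 3), (3, 4, 4),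
   (4, 1, 2), (4, 2, 1), (4, 2, 2), (4, 2, 3), (4, 3, 2), (4, 3, 3), (4, 3, 4), (4, 4, 3), (4, 4, 4)]

theorem mem_vs : ∀ x ∈ Finset.Icc (-4 : ℤ) 4, ∀ y ∈ Finset.Icc (-4 : ℤ) 4, ∀ z ∈ Finset.Icc (-4 : ℤ) 4,
    7 * (x * x + y * y + z * z) - 2 * ((x + y + z) * (x + y + z)) ≤ 49 → (x, y, z) ∈ vs := by
  decide +kernel

/-- a symmetric `3 × 3` matrix -/
structure Sym where
  (a b c d e f : ℤ)

/-- the Gram matrix on the unknown part -/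
def R (q₂ q₃ q₄ : V) : Sym where
  a := 20 - q₂.1 * q₂.1 - q₃.1 * q₃.1 - q₄.1 * q₄.1
  b := 21 - q₂.2.1 * q₂.2.1 - q₃.2.1 * q₃.2.1 - q₄.2.1 * q₄.2.1
  c := 21 - q₂.2.2 * q₂.2.2 - q₃.2.2 * q₃.2.2 - q₄.2.2 * q₄.2.2
  d := 14 - q₂.1 * q₂.2.1 - q₃.1 * q₃.2.1 - q₄.1 * q₄.2.1
  e := 14 - q₂.1 * q₂.2.2 - q₃.1 * q₃.2.2 - q₄.1 * q₄.2.2
  f := 14 - q₂.2.1 * q₂.2.2 - q₃.2.1 * q₃.2.2 - q₄.2.1 * q₄.2.2

/-- the minors of order at most two -/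
def Sym.minors (s : Sym) : Bool :=
  decide (0 ≤ s.a) && decide (0 ≤ s.b) && decide (0 ≤ s.c) && decide (s.d * s.d ≤ s.a * s.b) &&
    decide (s.e * s.e ≤ s.a * s.c) && decide (s.f * s.f ≤ s.b * s.c)

/-- the determinant -/
def Sym.det (s : Sym) : ℤ :=
  s.a * (s.b * s.c - s.f * s.f) - s.d * (s.d * s.c - s.f * s.e) + s.e * (s.d * s.f - s.b * s.e)

/-- `N R - ∑ (N / nₜ) Tₜ Tₜᵀ`, `T₀ = (1, 0, 0)`, `T₁ = q₂`, `T₂ = q₃`, `N = n₀ n₁ n₂` -/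
def W (s : Sym) (q₂ q₃ : V) (n₀ n₁ n₂ : ℤ) : Sym where
  a := n₀ * n₁ * n₂ * s.a - n₁ * n₂ - n₀ * n₂ * (q₂.1 * q₂.1) - n₀ * n₁ * (q₃.1 * q₃.1)
  b := n₀ * n₁ * n₂ * s.b - n₀ * n₂ * (q₂.2.1 * q₂.2.1) - n₀ * n₁ * (q₃.2.1 * q₃.2.1)
  c := n₀ * n₁ * n₂ * s.c - n₀ * n₂ * (q₂.2.2 * q₂.2.2) - n₀ * n₁ * (q₃.2.2 * q₃.2.2)
  d := n₀ * n₁ * n₂ * s.d - n₀ * n₂ * (q₂.1 * q₂.2.1) - n₀ * n₁ * (q₃.1 * q₃.2.1)
  e := n₀ * n₁ * n₂ * s.e - n₀ * n₂ * (q₂.1 * q₂.2.2) - n₀ * n₁ * (q₃.1 * q₃.2.2)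
  f := n₀ * n₁ * n₂ * s.f - n₀ * n₂ * (q₂.2.1 * q₂.2.2) - n₀ * n₁ * (q₃.2.1 * q₃.2.2)

/-- the possible lengths -/
def ns : List V :=
  [(1, 1, 1), (1, 1, 2), (1, 1, 3), (1, 2, 1), (1, 2, 2), (1, 3, 1), (2, 1, 1), (2, 1, 2), (2, 2, 1), (3, 1, 1)]

theorem mem_ns : ∀ x ∈ Finset.Icc (1 : ℤ) 3, ∀ y ∈ Finset.Icc (1 : ℤ) 3, ∀ z ∈ Finset.Icc (1 : ℤ) 3,
    x + y + z ≤ 5 → (x, y, z) ∈ ns := by
  decide +kernel

/-- the test of a triple -/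
def tst (q₂ q₃ q₄ : V) : Bool :=
  !(R q₂ q₃ q₄).minors || ns.all fun n => !decide ((W (R q₂ q₃ q₄) q₂ q₃ n.1 n.2.1 n.2.2).det = 0) ||
    (decide (n.1 = 1) && decide (n.2.2 = 1) && decide ((R q₂ q₃ q₄).a = 9) && decide (q₃.1 * q₃.1 = 1))

/-- the value modulo `49` -/
def val (a b : ℤ) (v : V) : ℤ := (v.1 + a * v.2.1 + b * v.2.2) % 49

/-- the residues modulo `49` which are `1` modulo `7` -/
def res : List ℤ := [1, 8, 15, 22, 29, 36, 43]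

theorem mem_res : ∀ x ∈ Finset.Icc (0 : ℤ) 48, x % 7 = 1 → x ∈ res := by
  decide +kernel

/-- the test -/
def chk : Bool :=
  res.all fun a => res.all fun b =>
    (vs.filter fun v => decide (val a b v = 19)).all fun q₂ =>
      (vs.filter fun v => decide (val a b v = 45)).all fun q₃ =>
        (vs.filter fun v => decide (val a b v = 16)).all fun q₄ => tst q₂ q₃ q₄

/-- **The computation.** -/
theorem chk_true : chk = true := by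
  decide +kernel

theorem tst_true {a b : ℤ} (ha : a ∈ res) (hb : b ∈ res) {q₂ q₃ q₄ : V} (h₂ : q₂ ∈ vs) (h₃ : q₃ ∈ vs) (h₄ : q₄ ∈ vs)
    (v₂ : val a b q₂ = 19) (v₃ : val a b q₃ = 45) (v₄ : val a b q₄ = 16) : tst q₂ q₃ q₄ = true := by
  have h := chk_true
  unfold chk at h
  have h1 := List.all_eq_true.mp (List.all_eq_true.mp h a ha) b hb
  have h2 := List.all_eq_true.mp h1 q₂ (List.mem_filter.mpr ⟨h₂, by simpa using v₂⟩)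
  have h3 := List.all_eq_true.mp h2 q₃ (List.mem_filter.mpr ⟨h₃, by simpa using v₃⟩)
  exact List.all_eq_true.mp h3 q₄ (List.mem_filter.mpr ⟨h₄, by simpa using v₄⟩)

/-- **The result of the enumeration.** -/
theorem enum {a b : ℤ} (ha : a ∈ res) (hb : b ∈ res) {q₂ q₃ q₄ : V} (h₂ : q₂ ∈ vs) (h₃ : q₃ ∈ vs) (h₄ : q₄ ∈ vs)
    (v₂ : val a b q₂ = 19) (v₃ : val a b q₃ = 45) (v₄ : val a b q₄ = 16) (hR : (R q₂ q₃ q₄).minors = true)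
    {n : V} (hn : n ∈ ns) (hW : (W (R q₂ q₃ q₄) q₂ q₃ n.1 n.2.1 n.2.2).det = 0) :
    n.1 = 1 ∧ n.2.2 = 1 ∧ (R q₂ q₃ q₄).a = 9 ∧ q₃.1 * q₃.1 = 1 := by
  have h := tst_true ha hb h₂ h₃ h₄ v₂ v₃ v₄
  unfold tst at h
  rw [hR, Bool.not_true, Bool.false_or] at h
  have h1 := List.all_eq_true.mp h n hn
  rw [hW] at h1
  simp only [decide_true, Bool.not_true, Bool.false_or, Bool.and_eq_true, decide_eq_true_eq] at h1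
  exact ⟨h1.1.1.1, h1.1.1.2, h1.1.2, h1.2⟩

end Cfsg.Agent.H490.BA
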